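import Groth.Agent.L20.SeeNormal.OpenAffine
import Groth.Agent.L08.Cube.SliceFibre
import Groth.Agent.L26.AV.InterPic
import Groth.Agent.L25.Extend.Codim
import Mathlib.AlgebraicGeometry.Morphisms.UniversallyOpen
import Mathlib.AlgebraicGeometry.AffineSpace

/-!
# The Picard group of a product with a rational normal variety
-/

set_option autoImplicit false
set_option linter.style.haveILetI false
set_option linter.unusedSectionVars false
set_option backward.isDefEq.respectTransparency.types false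

universe u

open CategoryTheory CategoryTheory.Limits MonoidalCategory CartesianMonoidalCategory MonObj AlgebraicGeometry TopologicalSpace

noncomputable section

namespace Groth.L19.PicRat

variable {k : Type u} [Field k]

/-- The class of the structure sheaf pulls back to itself. -/
theorem pullCl_unit {X Y : Scheme.{u}} (g : X ⟶ Y) :
    PicF.pullCl g (PicLoc.unitPicSet Y).1 = (PicLoc.unitPicSet X).1 :=
  congrArg Subtype.val (PicLoc.invCl_map_unitPicSet g)

/-- The spectrum of a field has only the trivial class. -/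
theorem picSet_spec_field (c : PicLoc.PicSet (Spec (CommRingCat.of k))) : c.1 = (PicLoc.unitPicSet _).1 := by
  obtain ⟨L, hL, hL'⟩ := c.2
  obtain ⟨e⟩ := Groth.L20.SeeNormal.nonempty_iso_structureModule_of_openImmersion (R := k) (𝟙 _) L hL'
  exact hL.symm.trans (Quot.sound ⟨e⟩)

/-- Classes restricted along a morphism factoring through the base field are trivial. -/
theorem pullCl_through_point {W Z : Scheme.{u}} (a : W ⟶ Spec (CommRingCat.of k)) (p : Spec (CommRingCat.of k) ⟶ Z)
    (c : PicLoc.PicSet Z) : PicF.pullCl (a ≫ p) c.1 = (PicLoc.unitPicSet W).1 := by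
  rw [PicLoc.pullCl_comp]
  exact (congrArg (PicF.pullCl a) (picSet_spec_field ⟨_, PicLoc.isInvertibleCl_pullCl p c.2⟩)).trans (pullCl_unit a)

variable [IsAlgClosed k] {X Y : Over (Spec (CommRingCat.of k))}

/-- The section of the second projection at a rational point. -/
abbrev secSnd (x : 𝟙_ (Over (Spec (CommRingCat.of k))) ⟶ X) : Y ⟶ X ⊗ Y := lift (toUnit Y ≫ x) (𝟙 Y)

/-- The section of the first projection at a rational point. -/
abbrev secFst (y : 𝟙_ (Over (Spec (CommRingCat.of k))) ⟶ Y) : X ⟶ X ⊗ Y := lift (𝟙 X) (toUnit X ≫ y)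

theorem pullCl_secSnd_fst (x : 𝟙_ (Over (Spec (CommRingCat.of k))) ⟶ X) (c : PicLoc.PicSet X.left) :
    PicF.pullCl (secSnd (Y := Y) x).left (PicF.pullCl (fst X Y).left c.1) = (PicLoc.unitPicSet Y.left).1 := by
  rw [← PicLoc.pullCl_comp, ← Over.comp_left, lift_fst, Over.comp_left]
  exact pullCl_through_point _ _ c

theorem pullCl_secSnd_snd (x : 𝟙_ (Over (Spec (CommRingCat.of k))) ⟶ X) (c : PicLoc.PicSet Y.left) :
    PicF.pullCl (secSnd (Y := Y) x).left (PicF.pullCl (snd X Y).left c.1) = c.1 := by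
  rw [← PicLoc.pullCl_comp, ← Over.comp_left, lift_snd, Over.id_left, PicLoc.pullCl_id]

theorem pullCl_secFst_snd (y : 𝟙_ (Over (Spec (CommRingCat.of k))) ⟶ Y) (c : PicLoc.PicSet Y.left) :
    PicF.pullCl (secFst (X := X) y).left (PicF.pullCl (snd X Y).left c.1) = (PicLoc.unitPicSet X.left).1 := by
  rw [← PicLoc.pullCl_comp, ← Over.comp_left, lift_snd, Over.comp_left]
  exact pullCl_through_point _ _ c

theorem pullCl_secFst_fst (y : 𝟙_ (Over (Spec (CommRingCat.of k))) ⟶ Y) (c : PicLoc.PicSet X.left) :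
    PicF.pullCl (secFst (X := X) y).left (PicF.pullCl (fst X Y).left c.1) = c.1 := by
  rw [← PicLoc.pullCl_comp, ← Over.comp_left, lift_fst, Over.id_left, PicLoc.pullCl_id]

/-- A variety has a rational point. -/
theorem exists_point (Z : Over (Spec (CommRingCat.of k))) [LocallyOfFiniteType Z.hom] [Nonempty Z.left] :
    Nonempty (𝟙_ (Over (Spec (CommRingCat.of k))) ⟶ Z) := by
  haveI : JacobsonSpace Z.left := LocallyOfFiniteType.jacobsonSpace Z.hom
  obtain ⟨z, -, hz⟩ := nonempty_inter_closedPoints (Z := (Set.univ : Set Z.left)) Set.univ_nonempty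
    isOpen_univ.isLocallyClosed
  exact ⟨Over.homMk (pointOfClosedPoint Z.hom z hz) (pointOfClosedPoint_comp Z.hom z hz)⟩

variable [IsIntegral X.left] [LocallyOfFiniteType X.hom] [QuasiCompact X.hom]
  [IsIntegral Y.left] [LocallyOfFiniteType Y.hom] [QuasiCompact Y.hom]
  [PicGrp.Law X.left] [PicGrp.Law Y.left] [PicGrp.Law (X ⊗ Y).left]

/-- For normal varieties, one of them rational, every class on the product is a sum of classes from the factors. -/
theorem exists_decomp (hX : Pi1.IsNormalScheme X.left) (hY : Pi1.IsNormalScheme Y.left)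
    (hrat : ∃ (U : X.left.Opens) (n : ℕ) (V : (𝔸(ULift.{u} (Fin n); Spec (CommRingCat.of k))).Opens)
      (e : (U : Scheme.{u}) ≅ (V : Scheme.{u})), (U : Set ↥X.left).Nonempty ∧
        e.hom ≫ V.ι ≫ (𝔸(ULift.{u} (Fin n); Spec (CommRingCat.of k)) ↘ Spec (CommRingCat.of k)) = U.ι ≫ X.hom)
    (h₁ : PicGrp.PullMul (fst X Y).left) (h₂ : PicGrp.PullMul (snd X Y).left) (l : PicLoc.PicSet (X ⊗ Y).left) :
    ∃ (c : PicLoc.PicSet X.left) (d : PicLoc.PicSet Y.left),
      PicGrp.pullHom (fst X Y).left h₁ c * PicGrp.pullHom (snd X Y).left h₂ d = l := by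
  obtain ⟨U, n, V, e, hne, he⟩ := hrat
  let π := 𝔸(ULift.{u} (Fin n); Spec (CommRingCat.of k)) ↘ Spec (CommRingCat.of k)
  haveI : CompactSpace X.left := QuasiCompact.compactSpace_of_compactSpace X.hom
  haveI : CompactSpace Y.left := QuasiCompact.compactSpace_of_compactSpace Y.hom
  haveI : IsLocallyNoetherian X.left := LocallyOfFiniteType.isLocallyNoetherian X.hom
  haveI : IsLocallyNoetherian Y.left := LocallyOfFiniteType.isLocallyNoetherian Y.hom
  haveI : IsNoetherian Y.left := ⟨⟩
  haveI : JacobsonSpace X.left := LocallyOfFiniteType.jacobsonSpace X.hom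
  -- a rational point of the open of affine space
  obtain ⟨x₀, hx₀U, hx₀c⟩ := nonempty_inter_closedPoints (Z := (U : Set X.left)) hne U.isOpen.isLocallyClosed
  let px : Spec (CommRingCat.of k) ⟶ X.left := pointOfClosedPoint X.hom x₀ hx₀c
  have hpx : Set.range px ⊆ Set.range U.ι := by
    rintro _ ⟨z, rfl⟩
    rw [Scheme.Opens.range_ι]
    exact (pointOfClosedPoint_apply X.hom x₀ hx₀c z).symm ▸ hx₀U
  let uU : Spec (CommRingCat.of k) ⟶ (U : Scheme.{u}) := IsOpenImmersion.lift U.ι px hpx
  let u₀ : Spec (CommRingCat.of k) ⟶ (V : Scheme.{u}) := uU ≫ e.hom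
  have hu₀ : u₀ ≫ V.ι ≫ π = 𝟙 _ := by
    simp only [u₀, π, Category.assoc, he]
    rw [IsOpenImmersion.lift_fac_assoc]
    exact pointOfClosedPoint_comp X.hom x₀ hx₀c
  -- the chart
  let ψ : pullback Y.hom (V.ι ≫ π) ⟶ (X ⊗ Y).left :=
    pullback.lift (pullback.snd Y.hom (V.ι ≫ π) ≫ e.inv ≫ U.ι) (pullback.fst Y.hom (V.ι ≫ π)) (by
      rw [Category.assoc, Category.assoc, ← he, Iso.inv_hom_id_assoc]
      exact (pullback.condition (f := Y.hom) (g := V.ι ≫ π)).symm)
  have hψ2 : ψ ≫ (snd X Y).left = pullback.fst Y.hom (V.ι ≫ π) := by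
    rw [Over.snd_left]
    exact pullback.lift_snd _ _ _
  obtain ⟨d₀, ⟨hd₀, hd₀'⟩, -⟩ := Groth.L20.SeeNormal.pullCl_bijective_open_affineSpace V Y.hom hY u₀ hu₀
    (PicF.pullCl ψ l.1) (PicLoc.isInvertibleCl_pullCl ψ l.2)
  let d : PicLoc.PicSet Y.left := ⟨d₀, hd₀⟩
  let m := l * (PicGrp.pullHom (snd X Y).left h₂ d)⁻¹
  obtain ⟨M, hMl, hM⟩ := m.2
  -- descend along the first projection
  let f : (X ⊗ Y).left ⟶ X.left := (fst X Y).left
  have hf : f = pullback.fst X.hom Y.hom := Over.fst_left
  haveI : Flat f := by rw [hf]; infer_instance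
  haveI : Surjective Y.hom := ⟨fun s => ⟨Classical.arbitrary Y.left, Subsingleton.elim (α := PrimeSpectrum k) _ _⟩⟩
  haveI : Surjective f := by rw [hf]; infer_instance
  haveI : LocallyOfFiniteType f := by rw [hf]; infer_instance
  haveI : LocallyOfFinitePresentation f := inferInstance
  haveI : IsLocallyNoetherian (X ⊗ Y).left := LocallyOfFiniteType.isLocallyNoetherian f
  haveI := Groth.L08.Cube.geometricallyIntegral_of_isAlgClosed Y.hom
  haveI : GeometricallyIntegral f := by rw [hf]; infer_instance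
  have hfib : ∀ x : X.left, IsIntegral (f.fiber x) := fun x => inferInstance
  have htriv : ∀ ξ : X.left, (∀ z : X.left, z ⤳ ξ → z = ξ) →
      Nonempty ((Scheme.Modules.pullback (f.fiberι ξ)).obj M ≅ Coh.structureModule (f.fiber ξ)) := by
    intro ξ hξ
    have hξU : ξ ∈ U := by
      have h1 : genericPoint X.left = ξ := hξ _ (genericPoint_specializes ξ)
      exact h1 ▸ ((genericPoint_spec X.left).mem_open_set_iff U.isOpen).2 (by simpa using hne)
    have hrange : Set.range (f.fiberι ξ ≫ f) ⊆ Set.range U.ι := by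
      rintro _ ⟨z, rfl⟩
      rw [Scheme.Opens.range_ι]
      have h1 : f.fiberι ξ z ∈ f ⁻¹' {ξ} := f.range_fiberι ξ ▸ ⟨z, rfl⟩
      rw [Scheme.Hom.comp_apply]
      exact (h1 : f (f.fiberι ξ z) = ξ).symm ▸ hξU
    let q : f.fiber ξ ⟶ (U : Scheme.{u}) := IsOpenImmersion.lift U.ι (f.fiberι ξ ≫ f) hrange
    have hq : q ≫ U.ι = f.fiberι ξ ≫ f := IsOpenImmersion.lift_fac _ _ _
    let w : f.fiber ξ ⟶ pullback Y.hom (V.ι ≫ π) :=
      pullback.lift (f.fiberι ξ ≫ (snd X Y).left) (q ≫ e.hom) (by
        rw [Category.assoc, Category.assoc, he, ← Category.assoc q, hq, Category.assoc]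
        exact congrArg (f.fiberι ξ ≫ ·) ((Over.w (snd X Y)).trans (Over.w (fst X Y)).symm))
    have hw : w ≫ ψ = f.fiberι ξ := by
      apply pullback.hom_ext
      · rw [Category.assoc, pullback.lift_fst, pullback.lift_snd_assoc, Category.assoc, Iso.hom_inv_id_assoc, hq, hf]
      · rw [Category.assoc, pullback.lift_snd, pullback.lift_fst, Over.snd_left]
    letI := Groth.Agent.AV.InterPic.picLaw (f.fiber ξ)
    have hpm := Groth.Agent.AV.InterPic.pullMul (f.fiberι ξ)
    have h3 : PicGrp.pullHom (f.fiberι ξ) hpm l =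
        PicGrp.pullHom (f.fiberι ξ) hpm (PicGrp.pullHom (snd X Y).left h₂ d) := by
      refine Subtype.ext ?_
      simp only [PicGrp.pullHom_apply_val]
      rw [← hw, PicLoc.pullCl_comp, ← hd₀', PicLoc.pullCl_comp, ← PicLoc.pullCl_comp ψ (snd X Y).left, hψ2]
    have h4 : PicGrp.pullHom (f.fiberι ξ) hpm m = 1 := by
      rw [map_mul, map_inv, h3, mul_inv_cancel]
    have h5 := congrArg Subtype.val h4
    rw [PicGrp.pullHom_apply_val, ← hMl, PicGrp.one_val] at h5
    exact (PicGrp.cl_eq_cl_iff _ _).1 h5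
  obtain ⟨C, hC, ⟨eC⟩⟩ := Groth.L20.SeeNormal.exists_descent f (Or.inr f.isOpenMap) hX (fun x _ => hfib x) M hM htriv
  refine ⟨PicGrp.cls C hC, d, ?_⟩
  have h6 : PicGrp.pullHom (fst X Y).left h₁ (PicGrp.cls C hC) = m :=
    Subtype.ext (by
      rw [PicGrp.pullHom_apply_val, ← hMl]
      exact Quot.sound ⟨eC⟩)
  rw [h6, inv_mul_cancel_right]

/-- The decomposition is unique. -/
theorem decomp_unique (h₁ : PicGrp.PullMul (fst X Y).left) (h₂ : PicGrp.PullMul (snd X Y).left)
    {c c' : PicLoc.PicSet X.left} {d d' : PicLoc.PicSet Y.left}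
    (h : PicGrp.pullHom (fst X Y).left h₁ c * PicGrp.pullHom (snd X Y).left h₂ d =
      PicGrp.pullHom (fst X Y).left h₁ c' * PicGrp.pullHom (snd X Y).left h₂ d') : c = c' ∧ d = d' := by
  haveI : Nonempty X.left := inferInstance
  obtain ⟨x⟩ := exists_point X
  obtain ⟨y⟩ := exists_point Y
  constructor
  · let hs := Groth.Agent.AV.InterPic.pullMul (secFst (X := X) y).left
    have hone : ∀ d : PicLoc.PicSet Y.left,
        PicGrp.pullHom (secFst (X := X) y).left hs (PicGrp.pullHom (snd X Y).left h₂ d) = 1 := fun d =>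
      Subtype.ext (by
        simp only [PicGrp.pullHom_apply_val]
        rw [pullCl_secFst_snd, PicGrp.one_val]
        rfl)
    have hid : ∀ c : PicLoc.PicSet X.left,
        PicGrp.pullHom (secFst (X := X) y).left hs (PicGrp.pullHom (fst X Y).left h₁ c) = c := fun c =>
      Subtype.ext (pullCl_secFst_fst y c)
    have := congrArg (PicGrp.pullHom (secFst (X := X) y).left hs) h
    rwa [map_mul, map_mul, hone, hone, hid, hid, _root_.mul_one, _root_.mul_one] at this
  · let hs := Groth.Agent.AV.InterPic.pullMul (secSnd (Y := Y) x).left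
    have hone : ∀ c : PicLoc.PicSet X.left,
        PicGrp.pullHom (secSnd (Y := Y) x).left hs (PicGrp.pullHom (fst X Y).left h₁ c) = 1 := fun c =>
      Subtype.ext (by
        simp only [PicGrp.pullHom_apply_val]
        rw [pullCl_secSnd_fst, PicGrp.one_val]
        rfl)
    have hid : ∀ d : PicLoc.PicSet Y.left,
        PicGrp.pullHom (secSnd (Y := Y) x).left hs (PicGrp.pullHom (snd X Y).left h₂ d) = d := fun d =>
      Subtype.ext (pullCl_secSnd_snd x d)
    have := congrArg (PicGrp.pullHom (secSnd (Y := Y) x).left hs) h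
    rwa [map_mul, map_mul, hone, hone, hid, hid, _root_.one_mul, _root_.one_mul] at this

/-- A translate of a class by a rational point through a rational variety is the class restricted at any other point. -/
theorem pullCl_section_eq (hX : Pi1.IsNormalScheme X.left) (hY : Pi1.IsNormalScheme Y.left)
    (hrat : ∃ (U : X.left.Opens) (n : ℕ) (V : (𝔸(ULift.{u} (Fin n); Spec (CommRingCat.of k))).Opens)
      (e : (U : Scheme.{u}) ≅ (V : Scheme.{u})), (U : Set ↥X.left).Nonempty ∧
        e.hom ≫ V.ι ≫ (𝔸(ULift.{u} (Fin n); Spec (CommRingCat.of k)) ↘ Spec (CommRingCat.of k)) = U.ι ≫ X.hom)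
    (h₁ : PicGrp.PullMul (fst X Y).left) (h₂ : PicGrp.PullMul (snd X Y).left) (l : PicLoc.PicSet (X ⊗ Y).left)
    (x x' : 𝟙_ (Over (Spec (CommRingCat.of k))) ⟶ X) :
    PicF.pullCl (secSnd (Y := Y) x).left l.1 = PicF.pullCl (secSnd (Y := Y) x').left l.1 := by
  obtain ⟨c, d, rfl⟩ := exists_decomp hX hY hrat h₁ h₂ l
  have key : ∀ z : 𝟙_ (Over (Spec (CommRingCat.of k))) ⟶ X,
      PicGrp.pullHom (secSnd (Y := Y) z).left (Groth.Agent.AV.InterPic.pullMul _)
        (PicGrp.pullHom (fst X Y).left h₁ c * PicGrp.pullHom (snd X Y).left h₂ d) = d := fun z => by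
    rw [map_mul]
    have hone : PicGrp.pullHom (secSnd (Y := Y) z).left (Groth.Agent.AV.InterPic.pullMul _)
        (PicGrp.pullHom (fst X Y).left h₁ c) = 1 := Subtype.ext (by
      simp only [PicGrp.pullHom_apply_val]
      rw [pullCl_secSnd_fst, PicGrp.one_val]
      rfl)
    rw [hone, _root_.one_mul]
    exact Subtype.ext (pullCl_secSnd_snd z d)
  exact congrArg Subtype.val ((key x).trans (key x').symm)

/-- Smooth schemes over a field are normal. -/
theorem isNormalScheme_of_smooth_field {Z : Over (Spec (CommRingCat.of k))} [Smooth Z.hom] :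
    Pi1.IsNormalScheme Z.left := by
  refine Groth.L25.Extend.isNormalScheme_of_smooth Z.hom fun x => ?_
  haveI : IsIntegral (Spec (CommRingCat.of k)) := inferInstance
  have hf : IsField ((Spec (CommRingCat.of k)).presheaf.stalk x) := by
    haveI : Subsingleton (Spec (CommRingCat.of k)) := inferInstanceAs (Subsingleton (PrimeSpectrum k))
    rw [Subsingleton.elim x (genericPoint (Spec (CommRingCat.of k)))]
    exact Field.toIsField (Spec (CommRingCat.of k)).functionField
  letI := hf.toField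
  exact ⟨inferInstance, inferInstance⟩

end Groth.L19.PicRat
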