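import Groth.Agent.L19.AlgGrpBasic.TorusAxes
import Groth.Agent.L08.Cube.SliceFibre
import Groth.Agent.L08.AbelianGrp

/-!
# Units on products of varieties
-/

set_option autoImplicit false
set_option linter.style.haveILetI false
set_option linter.unusedSectionVars false
set_option backward.isDefEq.respectTransparency.types false

universe u

open CategoryTheory CategoryTheory.Limits MonoidalCategory CartesianMonoidalCategory MonObj AlgebraicGeometry

noncomputable section

namespace Groth.L19.PicRat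

variable {k : Type u} [Field k] [IsAlgClosed k]

/-- **Rosenlicht.** A unit on a product of varieties equal to one on both axes is one. -/
theorem units_eq_one_of_axes {X Y : Over (Spec (CommRingCat.of k))}
    [IsIntegral X.left] [IsSeparated X.hom] [LocallyOfFiniteType X.hom]
    [IsIntegral Y.left] [IsSeparated Y.hom] [LocallyOfFiniteType Y.hom]
    (x₀ : 𝟙_ (Over (Spec (CommRingCat.of k))) ⟶ X) (y₀ : 𝟙_ (Over (Spec (CommRingCat.of k))) ⟶ Y)
    (u : Γ((X ⊗ Y).left, ⊤)ˣ) (h1 : (lift (toUnit Y ≫ x₀) (𝟙 Y)).left.appTop u.1 = 1)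
    (h2 : (lift (𝟙 X) (toUnit X ≫ y₀)).left.appTop u.1 = 1) : u = 1 := by
  haveI := Groth.L08.Cube.geometricallyIntegral_of_isAlgClosed X.hom
  haveI := Groth.L08.Cube.geometricallyIntegral_of_isAlgClosed Y.hom
  haveI : IsSeparated (Red.DS (Spec (CommRingCat.of k)) ℤ).hom :=
    Groth.L08.AbelianGrp.isSeparated (Red.DS (Spec (CommRingCat.of k)) ℤ)
  let χ : Multiplicative ℤ →* Γ((X ⊗ Y).left, ⊤) := (Units.coeHom _).comp (zpowersHom _ u)
  have hax : ∀ {T : Over (Spec (CommRingCat.of k))} (s : T ⟶ X ⊗ Y), s.left.appTop u.1 = 1 →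
      s ≫ Groth.L25.DSPts.pt χ = 1 := by
    intro T s hs
    apply Groth.L25.DSPts.char_injective
    rw [Groth.L25.DSPts.char_one]
    refine MonoidHom.ext fun m => ?_
    rw [Groth.L25.DSPts.char_comp, Groth.L25.DSPts.char_pt, MonoidHom.one_apply]
    let φ : Γ((X ⊗ Y).left, ⊤) →* Γ(T.left, ⊤) := s.left.appTop.hom.toMonoidHom
    have hU : Units.map φ u = 1 := Units.ext hs
    show s.left.appTop.hom ((u ^ Multiplicative.toAdd m : Γ((X ⊗ Y).left, ⊤)ˣ) : Γ((X ⊗ Y).left, ⊤)) = 1
    have := congrArg (Units.val) (map_zpow (Units.map φ) u (Multiplicative.toAdd m))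
    rw [hU, one_zpow] at this
    exact this
  have h := congrArg Groth.L25.DSPts.char
    (Groth.L19.AlgGrpBasic.eq_one_of_axes_DS x₀ y₀ (Groth.L25.DSPts.pt χ) (hax _ h1) (hax _ h2))
  rw [Groth.L25.DSPts.char_pt, Groth.L25.DSPts.char_one] at h
  have h' := DFunLike.congr_fun h (Multiplicative.ofAdd (1 : ℤ))
  exact Units.ext (by simpa [χ] using h')

end Groth.L19.PicRat
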