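import Groth.Agent.L02.RigidDesc.Rigid
import Groth.Agent.L16.Rees.SmulMod

/-!
# Descent of invertible modules along a covering whose kernel pair has few units
-/

set_option autoImplicit false
set_option linter.style.haveILetI false
set_option linter.unusedSectionVars false
set_option backward.isDefEq.respectTransparency.types false
set_option backward.isDefEq.respectTransparency false

universe u

open CategoryTheory CategoryTheory.Limits AlgebraicGeometry TopologicalSpace Opposite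
open Groth.L18.Frame (rs ro rs_rs rs_self exists_frame)
open Groth.L27.Assoc (Mo θ)
open Groth.L02.RigidDesc

noncomputable section

namespace Groth.L19.PicRat

theorem smulΓ_mul {X : Scheme.{u}} (M : X.Modules) (a b : Γ(X, ⊤)) :
    Formal.smulModΓ M (a * b) = Formal.smulModΓ M a ≫ Formal.smulModΓ M b := by
  refine Scheme.Modules.hom_ext _ _ fun U => ConcreteCategory.hom_ext _ _ fun m => ?_
  show _ = (Formal.smulModΓ M b).app U ((Formal.smulModΓ M a).app U m)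
  rw [smulΓ_app, smulΓ_app, smulΓ_app, mul_comm a b, show ro _ (b * a) = ro _ b * ro _ a from map_mul _ _ _, mul_smul]

theorem smulΓ_inj {X : Scheme.{u}} {M : X.Modules} (hM : PicF.IsInvertible M) {a b : Γ(X, ⊤)}
    (h : Formal.smulModΓ M a = Formal.smulModΓ M b) : a = b := by
  refine Groth.L21.Extend.eq_of_locally (Coh.structureModule X) a b fun y _ => ?_
  obtain ⟨W, e, hyW, he⟩ := exists_frame hM y
  refine ⟨W, le_top, hyW, he.inj le_rfl ?_⟩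
  have h2 := congr($(congrArg (fun φ => Scheme.Modules.Hom.app φ W) h) e)
  rw [smulΓ_app, smulΓ_app] at h2
  rw [rs_self]
  exact h2

/-- Automorphisms of invertible modules are multiplication by units. -/
theorem exists_unit_smulΓ {X : Scheme.{u}} {A : X.Modules} (hA : PicF.IsInvertible A) (e : A ⟶ A) [IsIso e] :
    ∃ c : Γ(X, ⊤)ˣ, e = Formal.smulModΓ A (c : Γ(X, ⊤)) := by
  obtain ⟨c, hc⟩ := exists_eq_smulΓ hA e
  obtain ⟨d, hd⟩ := exists_eq_smulΓ hA (inv e)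
  have h1 : c * d = 1 := smulΓ_inj hA (by rw [smulΓ_mul, smulΓ_one, ← hc, ← hd, IsIso.hom_inv_id])
  exact ⟨⟨c, d, h1, by rw [mul_comm, h1]⟩, hc⟩

variable {X' X P : Scheme.{u}} {g' : X' ⟶ X} {h₁ h₂ : P ⟶ X'} {L : X'.Modules}

/-- Twisting an isomorphism on the kernel pair by a function. -/
theorem Tr_smul (φ : Mo L h₁ ⟶ Mo L h₂) (c : Γ(P, ⊤)) {T : Scheme.{u}} (ℓ : T ⟶ P) (a b : T ⟶ X')
    (wa : ℓ ≫ h₁ = a) (wb : ℓ ≫ h₂ = b) :
    Tr (Formal.smulModΓ (Mo L h₁) c ≫ φ) ℓ a b wa wb = Formal.smulModΓ (Mo L a) (ℓ.appTop c) ≫ Tr φ ℓ a b wa wb := by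
  rw [Tr, Tr, Functor.map_comp, map_smulΓ, Category.assoc, ← Category.assoc (inv (θ L ℓ h₁ a wa)),
    ← Groth.L16.Rees.smulModΓ_naturality, Category.assoc]

/-- An isomorphism on the kernel pair can be normalised to the identity on the diagonal. -/
theorem exists_diag_normalised (sq : IsPullback h₁ h₂ g' g') (hL : PicF.IsInvertible L) (φ₀ : Mo L h₁ ≅ Mo L h₂) :
    ∃ φ : Mo L h₁ ⟶ Mo L h₂, IsIso φ ∧ ∀ {T : Scheme.{u}} (a : T ⟶ X'), pt φ sq a a rfl = 𝟙 _ := by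
  have hid : PicF.IsInvertible (Mo L (𝟙 X')) := Groth.L18.Ample.isInvertible_pullback _ hL
  haveI : IsIso (pt φ₀.hom sq (𝟙 X') (𝟙 X') rfl) := isIso_Tr φ₀.hom _ _ _ _ _
  obtain ⟨c₀, hc₀⟩ := exists_unit_smulΓ hid (pt φ₀.hom sq (𝟙 X') (𝟙 X') rfl)
  let c : Γ(P, ⊤) := h₂.appTop ((c₀⁻¹ : Γ(X', ⊤)ˣ) : Γ(X', ⊤))
  haveI : IsIso (Formal.smulModΓ (Mo L h₁) c) := isIso_smulΓ _ ((c₀⁻¹).isUnit.map h₂.appTop.hom)
  refine ⟨Formal.smulModΓ (Mo L h₁) c ≫ φ₀.hom, inferInstance, fun {T} a => ?_⟩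
  have hd : pt (Formal.smulModΓ (Mo L h₁) c ≫ φ₀.hom) sq (𝟙 X') (𝟙 X') rfl = 𝟙 _ := by
    rw [pt, Tr_smul]
    have hc : (sq.lift (𝟙 X') (𝟙 X') rfl).appTop c = ((c₀⁻¹ : Γ(X', ⊤)ˣ) : Γ(X', ⊤)) := by
      show (h₂.appTop ≫ (sq.lift (𝟙 X') (𝟙 X') rfl).appTop) _ = _
      rw [← Scheme.Hom.comp_appTop, sq.lift_snd, Scheme.Hom.id_appTop]
      rfl
    rw [hc, show Tr φ₀.hom _ _ _ _ _ = pt φ₀.hom sq (𝟙 X') (𝟙 X') rfl from rfl, hc₀, ← smulΓ_mul, Units.inv_mul,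
      smulΓ_one]
  have h := pt_natural (Formal.smulModΓ (Mo L h₁) c ≫ φ₀.hom) sq a (𝟙 X') (𝟙 X') rfl a a (Category.comp_id a)
    (Category.comp_id a) rfl
  rw [hd, CategoryTheory.Functor.map_id, Category.id_comp] at h
  rw [← cancel_epi (θ L a (𝟙 X') a (Category.comp_id a)), Category.comp_id]
  exact h.symm

/-- An invertible module isomorphic on the kernel pair descends when units on the triples are determined along
the two degenerate axes. -/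
theorem exists_descended_of_axes [Flat g'] [Surjective g'] [QuasiCompact g'] (sq : IsPullback h₁ h₂ g' g')
    (hL : PicF.IsInvertible L) (φ₀ : Mo L h₁ ≅ Mo L h₂) {Q Z W : Scheme.{u}} (r₁ r₂ r₃ : Q ⟶ X')
    (w₁₂ : r₁ ≫ g' = r₂ ≫ g') (w₂₃ : r₂ ≫ g' = r₃ ≫ g')
    (huniv : ∀ {T : Scheme.{u}} (a b c : T ⟶ X'), a ≫ g' = b ≫ g' → b ≫ g' = c ≫ g' →
      ∃ q : T ⟶ Q, q ≫ r₁ = a ∧ q ≫ r₂ = b ∧ q ≫ r₃ = c)
    (sZ : Z ⟶ Q) (hZ : sZ ≫ r₁ = sZ ≫ r₂) (sW : W ⟶ Q) (hW : sW ≫ r₂ = sW ≫ r₃)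
    (hunits : ∀ v : Γ(Q, ⊤)ˣ, sZ.appTop v.1 = 1 → sW.appTop v.1 = 1 → v = 1) :
    ∃ M : X.Modules, PicF.IsInvertible M ∧ Nonempty ((Scheme.Modules.pullback g').obj M ≅ L) := by
  obtain ⟨φ, hφ, hN⟩ := exists_diag_normalised sq hL φ₀
  haveI := hφ
  refine exists_descended φ sq hL fun {T} a b c w w' => ?_
  obtain ⟨q, ha, hb, hc⟩ := huniv a b c w w'
  refine comp_of_universal φ sq r₁ r₂ r₃ w₁₂ w₂₃ ?_ q a b c ha hb hc w w'
  haveI : ∀ {T : Scheme.{u}} (a b : T ⟶ X') (w : a ≫ g' = b ≫ g'), IsIso (pt φ sq a b w) :=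
    fun a b w => isIso_Tr φ _ _ _ _ _
  have hr₁ : PicF.IsInvertible (Mo L r₁) := Groth.L18.Ample.isInvertible_pullback r₁ hL
  obtain ⟨u, hu⟩ := exists_unit_smulΓ hr₁
    (pt φ sq r₁ r₂ w₁₂ ≫ pt φ sq r₂ r₃ w₂₃ ≫ inv (pt φ sq r₁ r₃ (w₁₂.trans w₂₃)))
  have key : ∀ {Y : Scheme.{u}} (s : Y ⟶ Q) (a b c : Y ⟶ X') (ea : s ≫ r₁ = a) (eb : s ≫ r₂ = b) (ec : s ≫ r₃ = c)
      (w : a ≫ g' = b ≫ g') (w' : b ≫ g' = c ≫ g'),
      pt φ sq a b w ≫ pt φ sq b c w' = pt φ sq a c (w.trans w') → s.appTop u.1 = 1 := by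
    intro Y s a b c ea eb ec w w' h
    refine smulΓ_inj (Groth.L18.Ample.isInvertible_pullback s hr₁) ?_
    rw [smulΓ_one, ← map_smulΓ, ← hu, Functor.map_comp, Functor.map_comp, Functor.map_inv, ← Category.assoc,
      IsIso.comp_inv_eq, Category.id_comp, ← cancel_mono (θ L s r₃ c ec), Category.assoc,
      pt_natural φ sq s r₂ r₃ w₂₃ b c eb ec w', ← Category.assoc,
      pt_natural φ sq s r₁ r₂ w₁₂ a b ea eb w, Category.assoc,
      pt_natural φ sq s r₁ r₃ (w₁₂.trans w₂₃) a c ea ec (w.trans w'), h]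
  have hu1 : u = 1 := by
    refine hunits u (key sZ _ _ _ rfl hZ.symm rfl rfl (by simp only [Category.assoc, w₁₂, w₂₃]) ?_)
      (key sW _ _ _ rfl hW rfl (by simp only [Category.assoc, w₁₂, w₂₃]) rfl ?_)
    · rw [hN, Category.id_comp]
    · rw [hN, Category.comp_id]
  rw [hu1, Units.val_one, smulΓ_one, ← Category.assoc, IsIso.comp_inv_eq, Category.id_comp] at hu
  exact hu

end Groth.L19.PicRat
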